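import Cfsg.Agent.H802.R2.Semi
import Cfsg.Agent.H328.Gow.IsoRes
import Cfsg.Agent.H226.R2.Base

/-!
# S4829, `p = 2`: the character of `Sp(V)`, `O(V)` in characteristic two is fixed by the semisimilitudes (helper19)

`SemiAut F b` : the automorphism `b` of `F.iso` is the conjugation by a semisimilitude; `exists_semiAut`.
`exists_rat_inv`, `exists_iso_inv` : the characters of `H328.Gow.exists_rat`, `exists_iso_id` are fixed by them.
-/

set_option autoImplicit false
set_option linter.style.haveILetI false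
set_option linter.unusedSectionVars false

open scoped ComplexConjugate
open Cfsg

namespace Cfsg.Agent.H19.R2

open Cfsg.Agent.OddOrderCharacters.Clifford Cfsg.Agent.Characters MulAction Module Cfsg.Agent.H53.HC
  Cfsg.Agent.H477.HC Cfsg.Agent.H328.Gow Cfsg.Agent.H139.Cusp Cfsg.Agent.H802.R2

universe u v w

section Conj

variable {K : Type u} [Field K] {V : Type v} [AddCommGroup V] [Module K V]

/-- conjugation by a semilinear bijection -/
def conjLin (ρ : K ≃+* K) (e : V ≃+ V) (he : ∀ (a : K) (v : V), e (a • v) = ρ a • e v) (g : V ≃ₗ[K] V) : V ≃ₗ[K] V where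
  toFun v := e (g (e.symm v))
  map_add' u v := by rw [map_add, map_add, map_add]
  map_smul' a v := by rw [symm_smul ρ e he, map_smul, he, ρ.apply_symm_apply, RingHom.id_apply]
  invFun v := e (g.symm (e.symm v))
  left_inv v := by
    change e (g.symm (e.symm (e (g (e.symm v))))) = v
    rw [e.symm_apply_apply, g.symm_apply_apply, e.apply_symm_apply]
  right_inv v := by
    change e (g (e.symm (e (g.symm (e.symm v))))) = v
    rw [e.symm_apply_apply, g.apply_symm_apply, e.apply_symm_apply]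

theorem conjLin_apply (ρ : K ≃+* K) (e : V ≃+ V) (he : ∀ (a : K) (v : V), e (a • v) = ρ a • e v) (g : V ≃ₗ[K] V) (v : V) :
    conjLin ρ e he g v = e (g (e.symm v)) := rfl

variable (F : CForm K V)

/-- `b` is the conjugation by a semisimilitude -/
def SemiAut (b : MulAut F.iso) : Prop :=
  ∃ (ρ : K ≃+* K) (e : V ≃+ V) (lam mu : K), (∀ (a : K) (v : V), e (a • v) = ρ a • e v) ∧
    (∀ u v, F.B (e u) (e v) = lam * ρ (F.B u v)) ∧ (∀ v, F.Q (e v) = mu * ρ (F.Q v)) ∧
    ∀ (g : F.iso) (v : V), ((b g : F.iso) : V ≃ₗ[K] V) (e v) = e ((g : V ≃ₗ[K] V) v)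

/-- **semisimilitudes give automorphisms** -/
theorem exists_semiAut [Finite F.iso] (ρ : K ≃+* K) (e : V ≃+ V) (he : ∀ (a : K) (v : V), e (a • v) = ρ a • e v)
    {lam mu : K} (hB : ∀ u v, F.B (e u) (e v) = lam * ρ (F.B u v)) (hQ : ∀ v, F.Q (e v) = mu * ρ (F.Q v)) :
    ∃ b : MulAut F.iso, SemiAut F b ∧ ∀ (g : F.iso) (v : V), ((b g : F.iso) : V ≃ₗ[K] V) (e v) = e ((g : V ≃ₗ[K] V) v) := by
  have hmem : ∀ g : F.iso, conjLin ρ e he g ∈ F.iso := by
    intro g
    refine ⟨fun u v => ?_, fun v => ?_⟩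
    · rw [conjLin_apply, conjLin_apply, hB, g.2.1, ← hB, e.apply_symm_apply, e.apply_symm_apply]
    · rw [conjLin_apply, hQ, g.2.2, ← hQ, e.apply_symm_apply]
  let f : F.iso →* F.iso :=
    { toFun := fun g => ⟨conjLin ρ e he g, hmem g⟩
      map_one' := by
        apply Subtype.ext
        ext v
        exact e.apply_symm_apply v
      map_mul' := fun g h => by
        apply Subtype.ext
        ext v
        change e ((g : V ≃ₗ[K] V) ((h : V ≃ₗ[K] V) (e.symm v))) =
          e ((g : V ≃ₗ[K] V) (e.symm (e ((h : V ≃ₗ[K] V) (e.symm v)))))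
        rw [e.symm_apply_apply] }
  have hf : ∀ (g : F.iso) (v : V), ((f g : F.iso) : V ≃ₗ[K] V) (e v) = e ((g : V ≃ₗ[K] V) v) := by
    intro g v
    change e ((g : V ≃ₗ[K] V) (e.symm (e v))) = _
    rw [e.symm_apply_apply]
  have hinj : Function.Injective f := by
    intro g h hgh
    apply Subtype.ext
    ext v
    apply e.injective
    rw [← hf, ← hf, hgh]
  have hbij : Function.Bijective f := Finite.injective_iff_bijective.1 hinj
  have h2 : ∀ (g : F.iso) (v : V), (((MulEquiv.ofBijective f hbij : MulAut F.iso) g : F.iso) : V ≃ₗ[K] V) (e v) =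
      e ((g : V ≃ₗ[K] V) v) := hf
  exact ⟨MulEquiv.ofBijective f hbij, ⟨ρ, e, lam, mu, he, hB, hQ, h2⟩, h2⟩

end Conj

variable {K : Type u} [Field K] {V : Type v} [AddCommGroup V] [Module K V] (F : CForm K V)
variable [Finite K] [FiniteDimensional K V] [Finite V]

open Cfsg.Agent.H636.Gow in
/-- **existence, with invariance** -/
theorem exists_rat_inv [Fintype F.iso] {k : ℕ} (hk : 0 < k) [Fintype (F.Om k)] {c : GL (Fin k) K → ℂ}
    (hc : IsIrrCharacter _ c) (hcusp : IsCusp c) {W₀ : Submodule K V} (hW₀ : W₀ ∈ F.Om k)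
    (hgal : ∀ τ : ℂ ≃+* ℂ, (fun A => τ (c A)) = c ∨ (fun A => τ (c A)) = c ∘ F.iota k)
    (hk2 : c ∘ F.iota k ≠ c ∨ 2 ≤ k) (hOm : Odd (Nat.card (F.Om k))) {d : ℕ} (hd : Odd d) (hcd : c 1 = d) :
    ∃ χ : F.iso → ℂ, IsIrrCharacter F.iso χ ∧ (∀ g, ∃ q : ℚ, χ g = q) ∧ (∃ e : ℕ, Odd e ∧ χ 1 = e) ∧
      classInner (hcf F c) χ ≠ 0 ∧ (c ∘ F.iota k ≠ c → χ = hcf F c) ∧
      ∀ b ∈ H226.R2.stab (hcf F c), ∀ g, χ (b g) = χ g := by
  classical
  let _ : Fintype (GL (Fin k) K) := Fintype.ofFinite _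
  by_cases hι : c ∘ F.iota k = c
  · have hk2' : 2 ≤ k := hk2.resolve_left fun h => h hι
    have hc1 : c ≠ 1 := by
      rintro rfl
      have h1 := inner_eq_zero_of_root F hk2' hc hcusp hW₀ (G' := ⊤) (fun _ _ => trivial)
        (χ := 1) Core.isCharacter_one (fun _ _ => rfl)
      have h2 := isChar_hcf F hc hW₀
      -- the trivial character is not cuspidal
      have h3 : (hcf F (1 : GL (Fin k) K → ℂ)) = fun g => (Nat.card {W : F.Om k //
          W.1.map (F.iso.subtype g : V →ₗ[K] V) = W.1} : ℂ) := by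
        ext g
        rw [hcf_apply]
        have h4 : ∀ W : F.Om k, flagTerm F.iso.subtype (1 : GL (Fin k) K → ℂ) g W.1 =
            if W.1.map (F.iso.subtype g : V →ₗ[K] V) = W.1 then 1 else 0 := by
          intro W
          split_ifs with h
          · rw [flagTerm_of _ _ h, cl_eq (fun _ _ => rfl) (finBasisOfFinrankEq K W.1 W.2.2)]
            rfl
          · exact flagTerm_not F _ h
        rw [Finset.sum_congr rfl fun W _ => h4 W, Finset.sum_boole, Nat.card_eq_fintype_card, Fintype.card_subtype]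
      rw [h3, Core.classInner_def] at h1
      have h5 := (mul_eq_zero.1 h1).resolve_left (inv_ne_zero card_ne_zero')
      have h6 : ((∑ g : F.iso, Nat.card {W : F.Om k // W.1.map (F.iso.subtype g : V →ₗ[K] V) = W.1} : ℕ) : ℂ) = 0 := by
        rw [← h5, Nat.cast_sum]
        refine Finset.sum_congr rfl fun g _ => ?_
        rw [Pi.one_apply, map_one, mul_one]
      rw [Nat.cast_eq_zero, Finset.sum_eq_zero_iff] at h6
      have h7 := h6 1 (Finset.mem_univ _)
      have h8 : Nonempty {W : F.Om k // W.1.map (F.iso.subtype 1 : V →ₗ[K] V) = W.1} :=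
        ⟨⟨⟨W₀, hW₀⟩, Submodule.map_id _⟩⟩
      exact absurd h7 Nat.card_pos.ne'
    have hn : classInner (hcf F c) (hcf F c) = (2 : ℕ) := by
      rw [inner_hcf F hk hc hc1 hcusp hc hW₀, hι, Core.classInner_irr_self hc]
      norm_num
    have hgen : IsGeneralizedCharacter F.iso (hcf F c) :=
      ⟨hcf F c, 0, isChar_hcf F hc hW₀, Core.isCharacter_zero, by rw [sub_zero]⟩
    have h1 : classInner (hcf F c) 1 = 0 := inner_eq_zero_of_root F hk2' hc hcusp hW₀ (G' := ⊤) (fun _ _ => trivial)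
        Core.isCharacter_one (fun _ _ => rfl)
    obtain ⟨T, hT, hT1, -, hT3, hT4, hT5⟩ := H226.R2.exists_supp hgen h1
      ⟨((Nat.card (F.Om k) * d : ℕ) : ℤ), by exact_mod_cast hOm.mul hd, by
        rw [hcf_one F (Core.isIrr_isClassFunction hc), hcd]
        push_cast
        ring⟩
    have h3 : T.card = 1 := by
      have h2 := hT3 2 hn
      obtain ⟨k, hk⟩ := hT
      omega
    obtain ⟨χ, rfl⟩ := Finset.card_eq_one.1 h3
    have hm := Finset.mem_singleton_self χ
    obtain ⟨h5, t, ht, ht'⟩ := (hT1 χ).1 hm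
    have hS2 := hT5 (hcf_rat F hk hc hcusp hW₀ hgal)
    refine ⟨χ, χ.2, fun g => ?_, h5, ?_, fun h => absurd hι h, fun b hb => ?_⟩
    · apply GaloisBasic.exists_rat_of_forall_ringEquiv
      · exact (GaloisBasic.isIntegral_apply (Core.isIrr_isCharacter χ.2) g).tower_top
      · intro σ
        exact congrFun (congrArg Subtype.val (Finset.mem_singleton.1 (hS2 σ χ hm))) g
    · rw [ht']
      intro h0
      have h6 : t = 0 := by exact_mod_cast h0
      rw [h6] at ht
      exact absurd ht (by decide)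
    · exact H226.R2.mem_stab_iff_tw.1 (Finset.mem_singleton.1 (hT4 b hb χ hm))
  · have hirr : IsIrrCharacter F.iso (hcf F c) := F.isIrr_hc_one hc hcusp hι hW₀
    refine ⟨hcf F c, hirr, hcf_rat F hk hc hcusp hW₀ hgal, ⟨Nat.card (F.Om k) * d, hOm.mul hd, ?_⟩, ?_, fun _ => rfl,
      fun b hb => hb⟩
    · rw [hcf_one F (Core.isIrr_isClassFunction hc), hcd]
      push_cast
      ring
    · rw [Core.classInner_irr_self hirr]
      exact one_ne_zero

/-- **`σ = id`, `3 ∣ q - 1`** -/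
theorem exists_one_id' (h2 : Even (Nat.card K)) (h3 : 3 ∣ Nat.card K - 1) :
    ∃ c : GL (Fin 1) K → ℂ, RCus K 1 (RingHom.id K) c ∧
      c ∘ ((Matrix.GeneralLinearGroup.map (RingHom.id K)).comp (invT 1)) ≠ c ∧ FieldGal c := by
  obtain ⟨L, _, _, _, hL⟩ := exists_L K 1 one_pos
  obtain ⟨θ, hθ⟩ := exists_theta L
  have hcardL : Nat.card Lˣ = Nat.card K ^ 1 - 1 := by
    rw [Nat.card_units, Module.natCard_eq_pow_finrank (K := K), hL]
  obtain ⟨a, ha⟩ := h3
  have har : a * 3 = Nat.card Lˣ := by rw [hcardL, pow_one, ha, mul_comm]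
  have ha0 : a ≠ 0 := by
    rintro rfl
    rw [zero_mul] at har
    exact Nat.card_pos.ne har
  exact ⟨_, exists_three 1 one_pos L hL hθ ha0 har (fun i hi hik => by omega) h2 (psi_id 1 L _),
    dual_ne_three 1 L hL hθ ha0 har (fun i hi hik => by omega) (fun i hi => by
      have : i = 0 := by omega
      rw [this, pow_zero]
      decide) (psi_id 1 L _), fieldGal_psi _ hL⟩

/-- **`σ = id`, `3 ∤ q - 1`** -/
theorem exists_two_id' (h2 : Even (Nat.card K)) (hd : (Nat.card K) % 3 = 2) :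
    ∃ c : GL (Fin 2) K → ℂ, RCus K 2 (RingHom.id K) c ∧ FieldGal c := by
  obtain ⟨L, _, _, _, hL⟩ := exists_L K 2 two_pos
  obtain ⟨θ, hθ⟩ := exists_theta L
  have hcardL : Nat.card Lˣ = Nat.card K ^ 2 - 1 := by
    rw [Nat.card_units, Module.natCard_eq_pow_finrank (K := K), hL]
  have h3 : 3 ∣ Nat.card K ^ 2 - 1 := by
    have h4 : Nat.card K ^ 2 - 1 = (Nat.card K + 1) * (Nat.card K - 1) := by
      rw [← Nat.sq_sub_sq, one_pow]
    rw [h4]
    exact Dvd.dvd.mul_right (by omega) _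
  obtain ⟨a, ha⟩ := h3
  have har : a * 3 = Nat.card Lˣ := by rw [hcardL, ha, mul_comm]
  have ha0 : a ≠ 0 := by
    rintro rfl
    rw [zero_mul] at har
    exact Nat.card_pos.ne har
  refine ⟨_, exists_three 2 two_pos L hL hθ ha0 har (fun i hi hik => ?_) h2 (psi_id 2 L _), fieldGal_psi _ hL⟩
  have : i = 1 := by omega
  rw [this, pow_one]
  omega

/-- **the isometry groups, `σ = id`, with invariance under the semisimilitudes** -/
theorem exists_iso_inv [Fintype F.iso] [CharP K 2]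
    (hσ : F.σ = RingHom.id K) {W : Submodule K V} (hW : W ∈ F.Om 2)
    (hT : (∃ t ≠ 0, F.T t = 0) ∨ ((∀ t, F.T t = 0 → t = 0) ∧ 5 ≤ finrank K V)) :
    ∃ χ : F.iso → ℂ, IsIrrCharacter F.iso χ ∧ (∀ g, ∃ q : ℚ, χ g = q) ∧ (∃ e : ℕ, Odd e ∧ χ 1 = e) ∧
      (∀ G' : Subgroup F.iso, (∀ g, IsRoot F g → g ∈ G') → ¬ ∀ g ∈ G', χ g = 1) ∧
      ∀ b : MulAut F.iso, SemiAut F b → ∀ g, χ (b g) = χ g := by
  classical
  have hfO : ∀ k, Finite (F.Om k) := fun k => by
    have : Finite (Submodule K V) := Finite.of_injective (fun W : Submodule K V => (W : Set V)) SetLike.coe_injective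
    infer_instance
  obtain ⟨s, hs⟩ := card_pow K 2
  have hs0 : s ≠ 0 := by
    rintro rfl
    rw [pow_zero] at hs
    have : 1 < Nat.card K := Finite.one_lt_card
    omega
  have heven : Even (Nat.card K) := by rw [hs]; exact even_two.pow_of_ne_zero hs0
  have hiota : ∀ k, F.iota k = (Matrix.GeneralLinearGroup.map (RingHom.id K)).comp (invT k) := fun k => by
    unfold CForm.iota
    rw [hσ]
  by_cases h3 : 3 ∣ Nat.card K - 1
  · obtain ⟨W₁, -, hW₁⟩ := Om_of_le F hW (show 1 ≤ 2 by omega)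
    let _ := Fintype.ofFinite (F.Om 1)
    obtain ⟨c, hc, hdual, hfg⟩ := exists_one_id' (K := K) heven h3
    obtain ⟨d, hd, hcd⟩ := hc.deg
    have hOm := odd_Om_one F hW₁ (by
      rcases hT with h | ⟨h, h'⟩
      · exact Or.inl h
      · exact Or.inr ⟨h, by omega⟩)
    have hdual' : c ∘ F.iota 1 ≠ c := by rw [hiota]; exact hdual
    have hgal : ∀ τ : ℂ ≃+* ℂ, (fun A => τ (c A)) = c ∨ (fun A => τ (c A)) = c ∘ F.iota 1 := by
      rw [hiota]; exact hc.gal
    obtain ⟨χ, hχ, hχr, hχd, -, hχc, hχi⟩ := exists_rat_inv F one_pos hc.irr hc.cusp hW₁ hgal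
      (Or.inl hdual') hOm hd hcd
    refine ⟨χ, hχ, hχr, hχd, fun G' _ hG' => card_Om_ne_one F one_pos hW₁ ?_, ?_⟩
    · have h1 := hG' 1 G'.one_mem
      rw [hχc hdual', hcf_one F (Core.isIrr_isClassFunction hc.irr), hcd] at h1
      have h2 : Nat.card (F.Om 1) * d = 1 := by exact_mod_cast h1
      exact Nat.eq_one_of_mul_eq_one_right h2
    · rintro b ⟨ρ, e, lam, mu, he, hB, hQ, hb⟩
      exact hχi b fun g => hcf_semi_fixed F one_pos hc.irr hc.cusp hW₁ hgal hfg ρ e he hB hQ (hb g)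
  · let _ := Fintype.ofFinite (F.Om 2)
    have h4 : Nat.card K % 3 = 2 := by
      have h5 : ¬ 3 ∣ Nat.card K := by
        rw [hs]
        intro h
        have := (Nat.prime_dvd_prime_iff_eq Nat.prime_three Nat.prime_two).1 (Nat.prime_three.dvd_of_dvd_pow h)
        omega
      have h6 : 0 < Nat.card K := Nat.card_pos
      omega
    obtain ⟨c, hc, hfg⟩ := exists_two_id' (K := K) heven h4
    obtain ⟨d, hd, hcd⟩ := hc.deg
    have hgal : ∀ τ : ℂ ≃+* ℂ, (fun A => τ (c A)) = c ∨ (fun A => τ (c A)) = c ∘ F.iota 2 := by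
      rw [hiota]; exact hc.gal
    obtain ⟨χ, hχ, hχr, hχd, hχ0, -, hχi⟩ := exists_rat_inv F two_pos hc.irr hc.cusp hW hgal
      (Or.inr le_rfl) (odd_Om_two F hW hT) hd hcd
    refine ⟨χ, hχ, hχr, hχd, fun G' hG hG' => hχ0 ?_, ?_⟩
    · exact inner_eq_zero_of_root F le_rfl hc.irr hc.cusp hW hG (Core.isIrr_isCharacter hχ) (fun g hg => by
        rw [hG' g hg, hG' 1 G'.one_mem])
    · rintro b ⟨ρ, e, lam, mu, he, hB, hQ, hb⟩
      exact hχi b fun g => hcf_semi_fixed F two_pos hc.irr hc.cusp hW hgal hfg ρ e he hB hQ (hb g)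

end Cfsg.Agent.H19.R2
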