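import Cfsg.Agent.H19.R2.Om
import Cfsg.Agent.H776.CY.Congr

/-!
# S4829, `p = 2`: the row of `PΩ⁻_{2m}(2^f)` (helper19)

`semiInd_minus` : every automorphism of `PΩ⁻_{2m+2}(q)`, `m ≥ 3`, is induced by a semisimilitude;
`ratInv_minus`, `row2_minus` : `Row2 (POmega F (quadFormMinus m F a b))`, `F` of characteristic two;
`rowFor2_minus` : `RowFor2 (fun X _ => IsPOmegaMinusChar 2 X)`.
-/

set_option autoImplicit false

open Cfsg

namespace Cfsg.Agent.H19.R2

open Cfsg.Agent.H53.HC Cfsg.Agent.H477.HC Cfsg.Agent.H328.Gow Cfsg.Agent.H770.CY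
open Cfsg.Agent.LieClassical Cfsg.Agent.LieClassical.OrthCore Cfsg.Agent.LieClassical.OrthForms
  Cfsg.Agent.LieClassical.OrthTrans Cfsg.Agent.LieClassical.OrthFinite

universe u

/-- **every automorphism is induced by a semisimilitude** -/
theorem semiInd_minus {F : Type u} [Field F] [Finite F] {m : ℕ} (hm : 3 ≤ m) {a b : F}
    (hab : ∀ z₁ z₂ : F, z₁ ^ 2 + a * z₁ * z₂ + b * z₂ ^ 2 = 0 → z₁ = 0 ∧ z₂ = 0)
    (α : MulAut (POmega F (quadFormMinus m F a b))) : SemiInd (quadFormMinus m F a b) α := by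
  have key : ∀ (Q : ((Fin m ⊕ Fin m) ⊕ Fin 2 → F) → F), Q = ⇑(minusForm m F a b) →
      ∀ α : MulAut (POmega F Q), SemiInd Q α := by
    rintro _ rfl α
    have hG : Good (minusForm m F a b) := by
      have := Fintype.ofFinite F
      apply good_of_finite (nondeg_minusForm m F a b hab)
      rw [Module.finrank_fintype_fun_eq_card, Fintype.card_sum, Fintype.card_sum, Fintype.card_fin,
        Fintype.card_fin]
      omega
    exact semiInd_of_gamAct hG (H987.BR.gamAct_minus hm hab rfl hG α)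
  exact key _ (coe_minusForm m F a b).symm α

/-- the character -/
theorem ratInv_minus {F : Type u} [Field F] [Fintype F] [CharP F 2] {m : ℕ} (hm : 3 ≤ m) {a b : F}
    (hab : ∀ z₁ z₂ : F, z₁ ^ 2 + a * z₁ * z₂ + b * z₂ ^ 2 = 0 → z₁ = 0 ∧ z₂ = 0) :
    H226.R2.RatInv (POmega F (quadFormMinus m F a b)) ⊤ := by
  obtain ⟨n, rfl⟩ : ∃ n, m = 3 + n := ⟨m - 3, by omega⟩
  obtain ⟨⟨W, hW⟩, -⟩ := CForm.minusF_frame (K := F) (p := 2) hab 3 n
  exact omega_ratInv (CForm.minusF F (3 + n) a b hab) (minus_hB F (3 + n) a b hab) rfl rfl (fun t ht => ht)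
    (by simp only [Fintype.card_sum, Fintype.card_fin]; omega) hW (minus_idx F a b hab hm)
    (fun z hz => cen_minus F (by omega) a b hab z hz) ⊤ (fun α _ => semiInd_minus hm hab α)

/-- **`Row2` for `PΩ⁻_{2m+2}(2^f)`** -/
theorem row2_minus {F : Type u} [Field F] [Fintype F] [CharP F 2] {m : ℕ} (hm : 3 ≤ m) {a b : F}
    (hab : ∀ z₁ z₂ : F, z₁ ^ 2 + a * z₁ * z₂ + b * z₂ ^ 2 = 0 → z₁ = 0 ∧ z₂ = 0) :
    Row2 (POmega F (quadFormMinus m F a b)) :=
  H226.R2.row2_of_odd_index (Γ := ⊤) (by rw [Subgroup.index_top]; exact odd_one) (ratInv_minus hm hab)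

/-- **the row** -/
theorem rowFor2_minus : RowFor2 (fun X _ => IsPOmegaMinusChar 2 X) := by
  intro X _ _ _ _ h
  obtain ⟨F, iF, iN, iC, m, a, b, hm, hab, ⟨e⟩⟩ := h
  exact H776.CY.Row2.congr e (row2_minus (m := m - 1) (by omega) hab)

end Cfsg.Agent.H19.R2
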