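import Cfsg.Agent.H19.R2.OMinus
import Cfsg.Agent.H583.R2.Aut

/-!
# S4829, `p = 2`: the rows of `PΩ⁺_{2m}(2^f)` and `PΩ⁻_{2m+2}(2^f)` (helper19)

`exists_gamma_plus` : a subgroup of odd index of `MulAut (POmega F (quadFormPlus m F))` induced by semisimilitudes
(helper583); `row2_plus`; `slot_oplus`, `slot_ominus` : the fields of `H802.R2.Slots`.
-/

set_option autoImplicit false

open Cfsg

namespace Cfsg.Agent.H19.R2

open Cfsg.Agent.H53.HC Cfsg.Agent.H477.HC Cfsg.Agent.H328.Gow Cfsg.Agent.H770.CY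
open Cfsg.Agent.LieClassical Cfsg.Agent.LieClassical.OrthCore Cfsg.Agent.LieClassical.OrthForms
  Cfsg.Agent.LieClassical.OrthTrans Cfsg.Agent.LieClassical.OrthFinite

/-- the semisimilitudes induce a subgroup of odd index -/
theorem exists_gamma_plus (F : Type) [Field F] [Finite F] {m : ℕ} (hm : 4 ≤ m) :
    ∃ Γ : Subgroup (MulAut (POmega F (quadFormPlus m F))), Odd Γ.index ∧ ∀ α ∈ Γ, SemiInd (quadFormPlus m F) α := by
  have key : ∀ (Q : ((Fin m ⊕ Fin m) → F) → F), Q = ⇑(plusForm m F) →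
      ∃ Γ : Subgroup (MulAut (POmega F Q)), Odd Γ.index ∧ ∀ α ∈ Γ, SemiInd Q α := by
    rintro _ rfl
    have hG : Good (plusForm m F) := H583.R2.good_plus hm
    exact ⟨H583.R2.GamGrp hG, H583.R2.odd_index_plus hm hG,
      fun α hα => semiInd_of_gamAct hG (H583.R2.gamAct_of_mem hG hα)⟩
  exact key _ (coe_plusForm m F).symm

/-- **`Row2` for `PΩ⁺_{2m}(2^f)`** -/
theorem row2_plus (F : Type) [Field F] [Fintype F] [CharP F 2] {m : ℕ} (hm : 4 ≤ m) :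
    Row2 (POmega F (quadFormPlus m F)) := by
  obtain ⟨Γ, h1, h2⟩ := exists_gamma_plus F hm
  refine H226.R2.row2_of_odd_index (Γ := Γ) h1 ?_
  obtain ⟨n, rfl⟩ : ∃ n, m = 3 + n := ⟨m - 3, by omega⟩
  obtain ⟨⟨W, hW⟩, -⟩ := CForm.plusF_frame (K := F) (p := 2) 3 n
  exact omega_ratInv (CForm.plusF F (3 + n)) (plus_hB F (3 + n)) rfl rfl (fun t ht => ht)
    (by simp only [Fintype.card_sum, Fintype.card_fin]; omega) hW (plus_idx F hm)
    (fun z hz => cen_plus F (by omega) z hz) Γ h2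

/-- **the slot `oplus`** -/
theorem slot_oplus : RowFor2 (fun X _ => ∃ (F : Type) (_ : Field F) (_ : Fintype F) (_ : CharP F 2) (m : ℕ), 4 ≤ m ∧
    Nonempty (X ≃* POmega F (quadFormPlus m F))) := by
  intro X _ _ _ _ h
  obtain ⟨F, iF, iN, iC, m, hm, ⟨e⟩⟩ := h
  exact H776.CY.Row2.congr e (row2_plus F hm)

/-- **the slot `ominus`** -/
theorem slot_ominus : RowFor2 (fun X _ => ∃ (F : Type) (_ : Field F) (_ : Fintype F) (_ : CharP F 2) (m : ℕ) (a b : F),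
    3 ≤ m ∧ (∀ z₁ z₂ : F, z₁ ^ 2 + a * z₁ * z₂ + b * z₂ ^ 2 = 0 → z₁ = 0 ∧ z₂ = 0) ∧
    Nonempty (X ≃* POmega F (quadFormMinus m F a b))) := by
  intro X _ _ _ _ h
  obtain ⟨F, iF, iN, iC, m, a, b, hm, hab, ⟨e⟩⟩ := h
  exact H776.CY.Row2.congr e (row2_minus hm hab)

end Cfsg.Agent.H19.R2
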