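import Cfsg.Agent.H19.R2.Iso
import Cfsg.Agent.H328.Gow.RowsSpO
import Cfsg.Agent.H987.BR.OmAut
import Cfsg.Agent.H410.BR.OmDefs

/-!
# S4829, `p = 2`: the character of `POmega(Q)`, characteristic two, fixed by the semisimilitudes (helper19)

`SemiInd Q α` : the automorphism `α` of `POmega K Q` is induced by a semisimilitude of `Q`;
`omega_inv` : a nontrivial rational irreducible character of odd degree of `POmega K Q` fixed by all of them;
`semiInd_of_gamAct` : `H987.BR.GamAct` gives `SemiInd`.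
-/

set_option autoImplicit false
set_option linter.style.haveILetI false
set_option linter.unusedVariables false

open scoped ComplexConjugate
open Cfsg

namespace Cfsg.Agent.H19.R2

open Cfsg.Agent.OddOrderCharacters.Clifford Cfsg.Agent.Characters MulAction Module Cfsg.Agent.H53.HC
  Cfsg.Agent.H477.HC Cfsg.Agent.H636.Gow Cfsg.Agent.H328.Gow

universe u v w

/-- `α` is induced by a semisimilitude of `Q` -/
def SemiInd {ι : Type} [Fintype ι] [DecidableEq ι] {K : Type u} [Field K] (Q : (ι → K) → K)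
    (α : MulAut (POmega K Q)) : Prop :=
  ∃ (ρ : K ≃+* K) (e : (ι → K) ≃+ (ι → K)) (mu : K), (∀ (a : K) (v : ι → K), e (a • v) = ρ a • e v) ∧
    (∀ v, Q (e v) = mu * ρ (Q v)) ∧
    ∀ g : Omega K Q, ∃ g' : Omega K Q, (QuotientGroup.mk g' : POmega K Q) = α (QuotientGroup.mk g) ∧
      ∀ v, (((g' : isometryGroup K Q) : GL ι K) : Matrix ι ι K).mulVec (e v) =
        e ((((g : isometryGroup K Q) : GL ι K) : Matrix ι ι K).mulVec v)

/-- **orthogonal groups in characteristic two: a character fixed by the semisimilitudes** -/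
theorem omega_inv {ι : Type} [Fintype ι] [DecidableEq ι] {K : Type u} [Field K] [Finite K] [CharP K 2]
    (F : CForm K (ι → K)) (hB : ∀ u v, F.B u v = F.Q (u + v) - F.Q u - F.Q v) (hσ : F.σ = RingHom.id K)
    (hε : F.ε = 1) (hT : ∀ t, F.T t = 0 → t = 0) (h5 : 5 ≤ Fintype.card ι) {M₀ : Submodule K (ι → K)}
    (hM₀ : M₀ ∈ F.Om 3) (hidx : (Omega K F.Q).index ∣ 8)
    (hcen : ∀ z : Omega K F.Q, z ∈ Subgroup.center (Omega K F.Q) → omMat z = 1 ∨ omMat z = -1) :
    ∃ η : POmega K F.Q → ℂ, IsIrrCharacter (POmega K F.Q) η ∧ η ≠ 1 ∧ (∃ d : ℕ, Odd d ∧ η 1 = d) ∧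
      (∀ g, ∃ q : ℚ, η g = q) ∧ ∀ α : MulAut (POmega K F.Q), SemiInd F.Q α → ∀ x, η (α x) = η x := by
  classical
  obtain ⟨W, -, hW⟩ := Om_of_le F hM₀ (show 2 ≤ 3 by omega)
  have hfi := finite_iso F
  let _ := Fintype.ofFinite F.iso
  obtain ⟨χ, hχ, hrat, ⟨e, he, hχ1⟩, hne, hinv⟩ := exists_iso_inv F hσ hW (Or.inr ⟨hT, by
    rw [Module.finrank_fintype_fun_eq_card]; exact h5⟩)
  have hfg : Finite (isometryGroup K F.Q) := Finite.of_equiv _ (isoQuad F hB).symm.toEquiv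
  let _ := Fintype.ofFinite (isometryGroup K F.Q)
  let _ := Fintype.ofFinite (Omega K F.Q)
  obtain ⟨χ₁, hχ₁⟩ : ∃ χ₁, χ₁ = χ ∘ (isoQuad F hB).toMonoidHom := ⟨_, rfl⟩
  have hχ' : IsIrrCharacter _ χ₁ := by
    rw [hχ₁]
    exact Core.isIrr_comp (isoQuad F hB).toMonoidHom (isoQuad F hB).surjective hχ
  have hχ'1 : χ₁ 1 = e := by rw [hχ₁, Function.comp_apply, map_one, hχ1]
  have hα : IsCharacter (Omega K F.Q) (χ₁ ∘ (Omega K F.Q).subtype) :=
    Core.isCharacter_comp _ (Core.isIrr_isCharacter hχ')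
  obtain ⟨θ, hθ, hθ'⟩ := exists_constituent hα (by
    rw [Function.comp_apply, map_one]; exact Core.isIrr_apply_one_ne_zero hχ')
  obtain ⟨d, hd0, hd⟩ := Core.isIrr_apply_one hθ
  obtain ⟨h3, h4⟩ := Cfsg.Agent.S0887.result (Omega K F.Q) χ₁ hχ' θ hθ hθ' e d hχ'1 hd
  have hde : e = d := by
    obtain ⟨t, ht⟩ := h3
    rw [ht, Nat.mul_div_cancel_left _ hd0] at h4
    have h5 : Odd t := he.of_dvd_nat (Dvd.intro_left d ht.symm)
    have h6 : t ∣ 2 ^ 3 := h4.trans hidx
    have h7 : t = 1 := Nat.Coprime.eq_one_of_dvd (Nat.Coprime.pow_right 3 (Nat.coprime_two_right.2 h5)) h6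
    rw [ht, h7, mul_one]
  have hres : χ₁ ∘ (Omega K F.Q).subtype = θ := eq_of_degree hα hθ hθ' (by
    rw [Function.comp_apply, map_one, hχ'1, hd, hde])
  have hval : ∀ x : Omega K F.Q, θ x = χ (isoQuad F hB (x : isometryGroup K F.Q)) := by
    intro x
    rw [← hres, hχ₁]
    rfl
  have h2 : (2 : K) = 0 := by exact_mod_cast CharP.cast_eq_zero K 2
  have hneg : ∀ A : Matrix ι ι K, A = 1 ∨ A = -1 → A = 1 := by
    rintro A (h | h)
    · exact h
    · rw [h]
      have h3 : (-1 : K) = 1 := by linear_combination -h2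
      ext i j
      rw [Matrix.neg_apply, Matrix.one_apply]
      split_ifs
      · exact h3
      · exact neg_zero
  obtain ⟨η, hη, hη'⟩ := exists_quot (Subgroup.center (Omega K F.Q)) hθ (fun z hz => by
    have h1 : z = 1 := Subtype.ext (Subtype.ext (Units.ext (hneg _ (hcen z hz))))
    rw [h1])
  refine ⟨η, hη, ?_, ⟨e, he, ?_⟩, ?_, ?_⟩
  · rintro rfl
    refine hne ((Omega K F.Q).map (isoQuad F hB).toMonoidHom) (fun g hg => ?_) fun g hg => ?_
    · have h1 := root_mem_commutator F hσ hε hM₀ hg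
      have h6 : (Omega K F.Q).map (isoQuad F hB).toMonoidHom = commutator F.iso := by
        have h7 : (isoQuad F hB).toMonoidHom.range = ⊤ := MonoidHom.range_eq_top.2 (isoQuad F hB).surjective
        change (commutator (isometryGroup K F.Q)).map _ = _
        rw [commutator_def, commutator_def, Subgroup.map_commutator, ← MonoidHom.range_eq_map, h7]
      rw [h6]
      exact h1
    · obtain ⟨x, hx, rfl⟩ := hg
      have h1 := hη' ⟨x, hx⟩
      rw [hval] at h1
      exact h1.symm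
  · have := hη' 1
    rw [QuotientGroup.mk_one] at this
    rw [this, hd, hde]
  · intro g
    obtain ⟨x, rfl⟩ := QuotientGroup.mk_surjective g
    rw [hη', hval]
    exact hrat _
  · -- the invariance
    rintro α ⟨ρ, M, mu, hM, hQ, hi⟩ x
    obtain ⟨g, rfl⟩ := QuotientGroup.mk_surjective x
    obtain ⟨g', hg', hgv⟩ := hi g
    rw [← hg', hη', hη', hval, hval]
    have hBM : ∀ u v, F.B (M u) (M v) = mu * ρ (F.B u v) := by
      intro u v
      rw [hB, hB, ← map_add, hQ, hQ, hQ, map_sub, map_sub]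
      ring
    obtain ⟨b, hb, hb'⟩ := exists_semiAut F ρ M hM hBM hQ
    have h7 : b (isoQuad F hB (g : isometryGroup K F.Q)) = isoQuad F hB (g' : isometryGroup K F.Q) := by
      apply Subtype.ext
      apply LinearEquiv.ext
      intro v
      obtain ⟨w, rfl⟩ := M.surjective v
      rw [hb', isoQuad_apply, isoQuad_apply, hgv]
    rw [← h7]
    exact hinv b hb _

/-- `RatInv` -/
theorem omega_ratInv {ι : Type} [Fintype ι] [DecidableEq ι] {K : Type u} [Field K] [Finite K] [CharP K 2]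
    (F : CForm K (ι → K)) (hB : ∀ u v, F.B u v = F.Q (u + v) - F.Q u - F.Q v) (hσ : F.σ = RingHom.id K)
    (hε : F.ε = 1) (hT : ∀ t, F.T t = 0 → t = 0) (h5 : 5 ≤ Fintype.card ι) {M₀ : Submodule K (ι → K)}
    (hM₀ : M₀ ∈ F.Om 3) (hidx : (Omega K F.Q).index ∣ 8)
    (hcen : ∀ z : Omega K F.Q, z ∈ Subgroup.center (Omega K F.Q) → omMat z = 1 ∨ omMat z = -1)
    (Γ : Subgroup (MulAut (POmega K F.Q))) (hΓ : ∀ α ∈ Γ, SemiInd F.Q α) : H226.R2.RatInv (POmega K F.Q) Γ := by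
  obtain ⟨η, h1, h2, h3, h4, h6⟩ := omega_inv F hB hσ hε hT h5 hM₀ hidx hcen
  exact ⟨η, h1, h2, h3, h4, fun α hα => h6 α (hΓ α hα)⟩

section Gam

open Cfsg.Agent.LieClassical Cfsg.Agent.LieClassical.OrthCore Cfsg.Agent.LieClassical.OrthTrans
  Cfsg.Agent.LieClassical.OrthFinite Cfsg.Agent.ClassicalGeometry.OrthSemi Cfsg.Agent.ClassicalGeometry.OrthSemiForms

/-- **from `GamAct`** -/
theorem semiInd_of_gamAct {F : Type u} [Field F] {ι : Type} [Fintype ι] [DecidableEq ι] {Q : QuadraticForm F (ι → F)}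
    (hG : Good Q) {a : MulAut (Cfsg.POmega F ⇑Q)} (ha : H987.BR.GamAct hG a) : SemiInd (⇑Q) a := by
  obtain ⟨M, hM⟩ := ha
  obtain ⟨σ, c, h⟩ := M.2
  refine ⟨σ, H987.BR.gamEquiv M, c, h.smul, h.form, fun g => ?_⟩
  obtain ⟨g', hg', hv⟩ := H987.BR.gam_induces hG ((H410.BR.omRho Q)) (fun _ _ => rfl) hM g
  exact ⟨g', hg', hv⟩

end Gam

end Cfsg.Agent.H19.R2
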